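import Mathlib
import Cfsg.Agent.Nodes.RGDChev
import Cfsg.Agent.H897.T5Conn

/-!
# Square roots of `-1` of the lattice `E₈` and the standard `D₄` (S2187, X3)

`exists_base` : an automorphism `g` of the root lattice `E₈` with `g² = -1` acts on some conjugate of the standard `D₄`
(nodes `1, 2, 3, 4`) as an element of its Weyl group.

`trans_D4` : `W(E₈)` is transitive on ordered bases of subsystems `D₄`.
-/

set_option autoImplicit false
set_option linter.unusedSectionVars false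

namespace Cfsg.Agent.H897.X3

open CoxeterSystem Cfsg Cfsg.Lie Cfsg.Lie.ChevalleyDatum
open Cfsg.Agent.ChevalleyStructure Cfsg.Agent.ChevalleyStructure.Elts Cfsg.Agent.ChevalleyStructure.CoxeterGeom
  Cfsg.Agent.ChevalleyStructure.CoxeterGeomTypes Cfsg.Agent.ChevalleyStructure.NPerm
open Cfsg.Agent.Tits.Roots Cfsg.Agent.Tits.Core Cfsg.Agent.Nodes Cfsg.Agent.Nodes.Reps
  Cfsg.Agent.Nodes.RGDChev Cfsg.Agent.Nodes.SubComb Cfsg.Agent.Nodes.Coroot Cfsg.Agent.Nodes.Comb
open Cfsg.Agent.H897.T5Lat (Frm bf bf_apply)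
open Cfsg.Agent.H897.T5Conn (Par)

/-! ### dominance -/

section Dom

variable {I W : Type*} [Fintype I] [DecidableEq I] [Group W] {M : CoxeterMatrix I}
  {cs : CoxeterSystem M W} {A : I → I → ℤ} {h : IsCartan M A} {B : LinearMap.BilinForm ℤ (I → ℤ)}

/-- fixed vectors of a parabolic subgroup -/
theorem fix_closure [Finite W] (F : Frm cs h B) {J : Set I} {y : I → ℤ} (hy : ∀ i ∈ J, B y (sr i) = 0) {w : W}
    (hw : w ∈ Subgroup.closure (cs.simple '' J)) : rep cs h w y = y := by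
  induction hw using Subgroup.closure_induction with
  | mem x hx =>
    obtain ⟨i, hi, rfl⟩ := hx
    rw [rep_simple_eq, ← cpr_sr cs h, ← F.cpr y _ (isRoot_sr cs h i), hy i hi, zero_smul, sub_zero]
  | one => rw [map_one, Module.End.one_apply]
  | mul x y _ _ h1 h2 => rw [rep_mul_apply, h2, h1]
  | inv x _ h1 => conv_lhs => rw [← h1, rep_inv_apply]

/-- **Dominance** for a parabolic subgroup. -/
theorem exists_dom [Finite W] (F : Frm cs h B) (J : Set I) (x : I → ℤ) :
    ∃ w ∈ Subgroup.closure (cs.simple '' J), ∀ i ∈ J, 0 ≤ B (rep cs h w x) (sr i) := by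
  obtain ⟨w, hw, hmax⟩ := Set.exists_max_image ((Subgroup.closure (cs.simple '' J) : Subgroup W) : Set W)
    (fun w => ∑ i, rep cs h w x i) (Set.toFinite _) ⟨1, one_mem _⟩
  refine ⟨w, hw, fun i hi => ?_⟩
  by_contra hcon
  push Not at hcon
  have h1 := hmax (cs.simple i * w) (mul_mem (Subgroup.subset_closure ⟨i, hi, rfl⟩) hw)
  simp only [rep_mul_apply] at h1
  rw [rep_simple_eq, ← cpr_sr cs h, ← F.cpr _ _ (isRoot_sr cs h i)] at h1
  simp only [Pi.sub_apply, Pi.smul_apply, smul_eq_mul, Finset.sum_sub_distrib, ← Finset.mul_sum] at h1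
  have h2 : ∑ j, (sr i : I → ℤ) j = 1 := by
    rw [Finset.sum_eq_single i]
    · exact sr_self i
    · intro b _ hb; exact sr_ne hb
    · intro hj; exact absurd (Finset.mem_univ i) hj
  rw [h2, mul_one] at h1
  linarith

theorem ge_neg_two [Finite W] (F : Frm cs h B) {x y : I → ℤ} (hx : IsRoot cs h x) (hy : IsRoot cs h y) : -2 ≤ B x y := by
  have h1 := F.nonneg (x + y)
  rw [F.norm_add, F.self hx, F.self hy] at h1
  linarith

theorem eq_neg_of [Finite W] (F : Frm cs h B) {x y : I → ℤ} (hx : IsRoot cs h x) (hy : IsRoot cs h y) (h2 : B x y = -2) :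
    x = -y := by
  have h1 : B (x + y) (x + y) ≤ 0 := by
    rw [F.norm_add, F.self hx, F.self hy, h2]
    norm_num
  exact eq_neg_of_add_eq_zero_left (F.eq_zero h1)

theorem le_two [Finite W] (F : Frm cs h B) {x y : I → ℤ} (hx : IsRoot cs h x) (hy : IsRoot cs h y) : B x y ≤ 2 := by
  have h1 := ge_neg_two F hx.neg hy
  rw [map_neg, LinearMap.neg_apply] at h1
  linarith

theorem add_iff [Finite W] (F : Frm cs h B) {x y : I → ℤ} (hx : IsRoot cs h x) (hy : IsRoot cs h y) :
    B x y = -1 ↔ IsRoot cs h (x + y) := by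
  constructor
  · intro h1
    have h2 := isRoot_refl cs h hx hy
    rw [← F.cpr x y hy, h1, neg_smul, one_smul, sub_neg_eq_add] at h2
    exact h2
  · intro h1
    have h2 := F.self h1
    rw [F.norm_add, F.self hx, F.self hy] at h2
    linarith

theorem sub_iff [Finite W] (F : Frm cs h B) {x y : I → ℤ} (hx : IsRoot cs h x) (hy : IsRoot cs h y) :
    B x y = 1 ↔ IsRoot cs h (x - y) := by
  have h1 := add_iff F hx hy.neg
  rw [map_neg, ← sub_eq_add_neg] at h1
  rw [← h1]
  constructor <;> intro h2 <;> linarith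

/-- an additive automorphism preserving the roots is an isometry on the roots -/
theorem isom [Finite W] (F : Frm cs h B) {g : (I → ℤ) ≃+ (I → ℤ)} (hg : ∀ a, IsRoot cs h (g a) ↔ IsRoot cs h a)
    {x y : I → ℤ} (hx : IsRoot cs h x) (hy : IsRoot cs h y) : B (g x) (g y) = B x y := by
  have gx := (hg x).2 hx
  have gy := (hg y).2 hy
  have a1 := ge_neg_two F hx hy
  have a2 := le_two F hx hy
  have b1 := ge_neg_two F gx gy
  have b2 := le_two F gx gy
  have e1 : B (g x) (g y) = -1 ↔ B x y = -1 := by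
    rw [add_iff F gx gy, add_iff F hx hy, ← map_add, hg]
  have e2 : B (g x) (g y) = 1 ↔ B x y = 1 := by
    rw [sub_iff F gx gy, sub_iff F hx hy, ← map_sub, hg]
  have e3 : B (g x) (g y) = -2 ↔ B x y = -2 := by
    constructor
    · intro h1
      have h2 := eq_neg_of F gx gy h1
      rw [← map_neg] at h2
      rw [g.injective h2, map_neg, LinearMap.neg_apply, F.self hy]
    · intro h1
      rw [eq_neg_of F hx hy h1, map_neg, map_neg, LinearMap.neg_apply, F.self gy]
  have e4 : B (g x) (g y) = 2 ↔ B x y = 2 := by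
    constructor
    · intro h1
      have h2 : B (g x) (-g y) = -2 := by rw [map_neg, h1]
      have h3 := eq_neg_of F gx gy.neg h2
      rw [neg_neg] at h3
      rw [g.injective h3, F.self hy]
    · intro h1
      have h2 : B x (-y) = -2 := by rw [map_neg, h1]
      have h3 := eq_neg_of F hx hy.neg h2
      rw [neg_neg] at h3
      rw [h3, F.self gy]
  omega

end Dom

/-! ### `E₈` -/

/-- Cartan matrix of `E₈` -/
def A8 : Fin 8 → Fin 8 → ℤ := ![![2, 0, -1, 0, 0, 0, 0, 0], ![0, 2, 0, -1, 0, 0, 0, 0], ![-1, 0, 2, -1, 0, 0, 0, 0],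
  ![0, -1, -1, 2, -1, 0, 0, 0], ![0, 0, 0, -1, 2, -1, 0, 0], ![0, 0, 0, 0, -1, 2, -1, 0],
  ![0, 0, 0, 0, 0, -1, 2, -1], ![0, 0, 0, 0, 0, 0, -1, 2]]

/-- the form, computable -/
def b8 (x y : Fin 8 → ℤ) : ℤ := ∑ i, ∑ j, x i * A8 i j * y j

theorem hA8 : ∀ i j, cartanOf chevE8 8 i j = A8 i j := by decide +kernel

theorem bf_eq (x y : Fin 8 → ℤ) : bf (cartanOf chevE8 8) x y = b8 x y := by
  rw [bf_apply, b8]
  simp_rw [hA8]

theorem par8 : Par CoxeterMatrix.E₈ 1 ![2, 1, 3, 1, 3, 4, 5, 6] 8 := ⟨by decide +kernel, rfl, by decide +kernel⟩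

set_option backward.isDefEq.respectTransparency false in
theorem n8 : ∀ i j : Fin 8, CoxeterMatrix.E₈ i j ≠ 4 ∧ CoxeterMatrix.E₈ i j ≠ 6 := by decide

theorem eq_E8 {M : CoxeterMatrix (Fin 8)} (hp : IsType chevE8 8 M) : M = CoxeterMatrix.E₈ := by
  simp only [IsType, typeList, List.mem_cons, List.not_mem_nil, or_false, Prod.mk.injEq] at hp
  rcases hp with ⟨h, e⟩ | ⟨h, e⟩ | ⟨h, e⟩ | ⟨h, e⟩ | ⟨h, e⟩ | ⟨h, e⟩ | ⟨h, e⟩
  · exact absurd (congrArg Sigma.fst e) (by norm_num)
  · exact absurd (congrArg Sigma.fst e) (by norm_num)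
  · exact absurd (congrArg Sigma.fst e) (by norm_num)
  · exact absurd (congrArg Sigma.fst e) (by norm_num)
  · exact absurd (congrArg Sigma.fst e) (by norm_num)
  · exact absurd (congrArg Sigma.fst e) (by norm_num)
  · exact eq_of_heq (Sigma.mk.inj e).2

/-- the highest root -/
def th : Fin 8 → ℤ := ![2, 3, 4, 6, 5, 4, 3, 2]

/-- the third root of the tuple -/
def vc : Fin 8 → ℤ := ![0, -1, -1, -2, -2, -2, -2, -1]

/-- the fourth root of the tuple -/
def vd : Fin 8 → ℤ := ![-2, -2, -3, -4, -3, -2, -2, -1]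

/-- a root orthogonal to `th` -/
def vo : Fin 8 → ℤ := ![2, 2, 3, 4, 3, 2, 1, 0]

theorem vals : (∀ j, b8 th (sr j) = (![0, 0, 0, 0, 0, 0, 0, 1] : Fin 8 → ℤ) j) ∧
    (∀ j, b8 vc (sr j) = (![1, 0, 0, 0, 0, 0, -1, 0] : Fin 8 → ℤ) j) ∧
    (∀ j, b8 vd (sr j) = (![-1, 0, 0, 0, 0, 1, -1, 0] : Fin 8 → ℤ) j) ∧
    (∀ j, b8 vo (sr j) = (![1, 0, 0, 0, 0, 0, 0, -1] : Fin 8 → ℤ) j) ∧
    (∀ j, b8 (-sr 7) (sr j) = (![0, 0, 0, 0, 0, 0, 1, -2] : Fin 8 → ℤ) j) := by
  decide +kernel

section Chev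

variable {M : CoxeterMatrix (Fin 8)} (hp : IsType chevE8 8 M) {W : Type*} [Group W] (cs : CoxeterSystem M W)

theorem frm8 : Frm cs hp.isCartan (bf (cartanOf chevE8 8)) := by
  have := finite_W hp cs
  obtain rfl := eq_E8 hp
  exact par8.frm cs hp.isCartan (fun i j => (n8 i j).1) (fun i j => (n8 i j).2)

theorem trans8 {a b : Fin 8 → ℤ} (ha : IsRoot cs hp.isCartan a) (hb : IsRoot cs hp.isCartan b) :
    ∃ w : W, rep cs hp.isCartan w a = b := by
  obtain rfl := eq_E8 hp
  obtain ⟨w, hw⟩ := par8.trans (cs := cs) (h := hp.isCartan) ha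
  obtain ⟨w', hw'⟩ := par8.trans (cs := cs) (h := hp.isCartan) hb
  exact ⟨w'⁻¹ * w, by rw [rep_mul_apply, hw, ← hw', rep_inv_apply]⟩

theorem isRoot_th : IsRoot cs hp.isCartan th := by
  refine (isRoot_iff hp cs _).2 ?_
  decide +kernel

/-- the pairing with a vector -/
theorem b8_eq (x y : Fin 8 → ℤ) : b8 x y = y 0 * b8 x (sr 0) + y 1 * b8 x (sr 1) + y 2 * b8 x (sr 2) + y 3 * b8 x (sr 3) +
    y 4 * b8 x (sr 4) + y 5 * b8 x (sr 5) + y 6 * b8 x (sr 6) + y 7 * b8 x (sr 7) := by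
  have h0 : ∀ j, b8 x (sr j) = ∑ i, x i * A8 i j := fun j => by
    rw [b8]
    refine Finset.sum_congr rfl fun i _ => ?_
    rw [Finset.sum_eq_single j]
    · rw [sr_self, mul_one]
    · intro b _ hb; rw [sr_ne hb, mul_zero]
    · intro hj; exact absurd (Finset.mem_univ j) hj
  simp only [h0]
  rw [b8, Finset.sum_comm]
  simp only [Fin.sum_univ_eight]
  ring

include hp cs in
theorem eq_of_vals {x v : Fin 8 → ℤ} (h : ∀ j, b8 x (sr j) = b8 v (sr j)) : x = v := by
  have := finite_W hp cs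
  have F := frm8 hp cs
  have h2 : bf (cartanOf chevE8 8) (x - v) (x - v) = 0 := by
    have h3 : ∀ y, bf (cartanOf chevE8 8) (x - v) y = 0 := by
      intro y
      rw [map_sub, LinearMap.sub_apply, bf_eq, bf_eq, b8_eq x y, b8_eq v y]
      simp only [h, sub_self]
    exact h3 _
  exact sub_eq_zero.1 (F.eq_zero h2.le)

/-- a base of a subsystem `D₄` with centre `a` -/
structure Bs (a b c d : Fin 8 → ℤ) : Prop where
  ra : IsRoot cs hp.isCartan a
  rb : IsRoot cs hp.isCartan b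
  rc : IsRoot cs hp.isCartan c
  rd : IsRoot cs hp.isCartan d
  ab : b8 b a = -1
  ac : b8 c a = -1
  ad : b8 d a = -1
  bc : b8 c b = 0
  bd : b8 d b = 0
  cd : b8 d c = 0

variable {cs}

theorem inv8 (w : W) (x y : Fin 8 → ℤ) : b8 (rep cs hp.isCartan w x) (rep cs hp.isCartan w y) = b8 x y := by
  have := (frm8 hp cs).inv w x y
  rwa [bf_eq, bf_eq] at this

variable {hp} in
theorem Bs.rep {a b c d : Fin 8 → ℤ} (H : Bs hp cs a b c d) (w : W) :
    Bs hp cs (rep cs hp.isCartan w a) (rep cs hp.isCartan w b) (rep cs hp.isCartan w c) (rep cs hp.isCartan w d) where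
  ra := H.ra.act w
  rb := H.rb.act w
  rc := H.rc.act w
  rd := H.rd.act w
  ab := by rw [inv8 hp]; exact H.ab
  ac := by rw [inv8 hp]; exact H.ac
  ad := by rw [inv8 hp]; exact H.ad
  bc := by rw [inv8 hp]; exact H.bc
  bd := by rw [inv8 hp]; exact H.bd
  cd := by rw [inv8 hp]; exact H.cd

/-- the pairings of a root with the simple roots -/
theorem ge8 {x : Fin 8 → ℤ} (hx : IsRoot cs hp.isCartan x) (j : Fin 8) : -2 ≤ b8 x (sr j) := by
  have := finite_W hp cs
  rw [← bf_eq]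
  exact ge_neg_two (frm8 hp cs) hx (isRoot_sr cs _ j)

theorem neg8 {x : Fin 8 → ℤ} (hx : IsRoot cs hp.isCartan x) {j : Fin 8} (h : b8 x (sr j) = -2) : x = -sr j := by
  have := finite_W hp cs
  rw [← bf_eq] at h
  exact eq_neg_of (frm8 hp cs) hx (isRoot_sr cs _ j) h

theorem dom8 (J : Set (Fin 8)) (x : Fin 8 → ℤ) :
    ∃ w ∈ Subgroup.closure (cs.simple '' J), ∀ i ∈ J, 0 ≤ b8 (rep cs hp.isCartan w x) (sr i) := by
  have := finite_W hp cs
  obtain ⟨w, hw, h1⟩ := exists_dom (frm8 hp cs) J x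
  exact ⟨w, hw, fun i hi => by rw [← bf_eq]; exact h1 i hi⟩

theorem fix8 {J : Set (Fin 8)} {y : Fin 8 → ℤ} (hy : ∀ i ∈ J, b8 y (sr i) = 0) {w : W}
    (hw : w ∈ Subgroup.closure (cs.simple '' J)) : rep cs hp.isCartan w y = y := by
  have := finite_W hp cs
  exact fix_closure (frm8 hp cs) (fun i hi => by rw [bf_eq]; exact hy i hi) hw

theorem b8_th (x : Fin 8 → ℤ) : b8 x th = 2 * b8 x (sr 0) + 3 * b8 x (sr 1) + 4 * b8 x (sr 2) + 6 * b8 x (sr 3) +
    5 * b8 x (sr 4) + 4 * b8 x (sr 5) + 3 * b8 x (sr 6) + 2 * b8 x (sr 7) := b8_eq x th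

theorem b8_vc (x : Fin 8 → ℤ) : b8 x vc = 0 * b8 x (sr 0) + (-1) * b8 x (sr 1) + (-1) * b8 x (sr 2) + (-2) * b8 x (sr 3) +
    (-2) * b8 x (sr 4) + (-2) * b8 x (sr 5) + (-2) * b8 x (sr 6) + (-1) * b8 x (sr 7) := b8_eq x vc

theorem b8_neg (x y : Fin 8 → ℤ) : b8 x (-y) = -b8 x y := by
  rw [← bf_eq, ← bf_eq, map_neg]

/-- the standard tuple -/
theorem to_std {a b c d : Fin 8 → ℤ} (H : Bs hp cs a b c d) :
    ∃ w : W, rep cs hp.isCartan w a = th ∧ rep cs hp.isCartan w b = -sr 7 ∧ rep cs hp.isCartan w c = vc ∧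
      rep cs hp.isCartan w d = vd := by
  obtain ⟨vth, vvc, vvd, vvo, v7⟩ := vals
  -- first
  obtain ⟨w1, hw1⟩ := trans8 hp cs H.ra (isRoot_th hp cs)
  have H1 := H.rep w1
  rw [hw1] at H1
  -- second
  obtain ⟨w2, hw2, hd2⟩ := dom8 hp (cs := cs) {i | i ≠ 7} (rep cs hp.isCartan w1 b)
  have f2 : rep cs hp.isCartan w2 th = th := fix8 hp (fun i hi => by
    rw [vth]; revert hi; fin_cases i <;> simp) hw2
  have H2 := H1.rep w2
  rw [f2] at H2
  have e2 : rep cs hp.isCartan w2 (rep cs hp.isCartan w1 b) = -sr 7 := by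
    refine neg8 hp H2.rb ?_
    have k := H2.ab
    rw [b8_th] at k
    have g7 := ge8 hp H2.rb 7
    have d0 := hd2 0 (by decide)
    have d1 := hd2 1 (by decide)
    have d2 := hd2 2 (by decide)
    have d3 := hd2 3 (by decide)
    have d4 := hd2 4 (by decide)
    have d5 := hd2 5 (by decide)
    have d6 := hd2 6 (by decide)
    omega
  rw [e2] at H2
  -- third
  obtain ⟨w3, hw3, hd3⟩ := dom8 hp (cs := cs) {i | i ≠ 7 ∧ i ≠ 6} (rep cs hp.isCartan w2 (rep cs hp.isCartan w1 c))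
  have f3 : rep cs hp.isCartan w3 th = th := fix8 hp (fun i hi => by
    rw [vth]; revert hi; fin_cases i <;> simp) hw3
  have f3' : rep cs hp.isCartan w3 (-sr 7) = -sr 7 := fix8 hp (fun i hi => by
    rw [v7]; revert hi; fin_cases i <;> simp) hw3
  have H3 := H2.rep w3
  rw [f3, f3'] at H3
  have e3 : rep cs hp.isCartan w3 (rep cs hp.isCartan w2 (rep cs hp.isCartan w1 c)) = vc := by
    have k := H3.ac
    have k' := H3.bc
    rw [b8_th] at k
    rw [b8_neg] at k'
    have g6 := ge8 hp H3.rc 6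
    have n6 : b8 (rep cs hp.isCartan w3 (rep cs hp.isCartan w2 (rep cs hp.isCartan w1 c))) (sr 6) ≠ -2 := by
      intro h6
      have h7 := neg8 hp H3.rc h6
      rw [h7] at k'
      have : b8 (-sr 6) (sr 7) = 1 := by decide +kernel
      omega
    have d0 := hd3 0 (by decide)
    have d1 := hd3 1 (by decide)
    have d2 := hd3 2 (by decide)
    have d3 := hd3 3 (by decide)
    have d4 := hd3 4 (by decide)
    have d5 := hd3 5 (by decide)
    refine eq_of_vals hp cs fun j => ?_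
    rw [vvc]
    fin_cases j <;> simp <;> omega
  rw [e3] at H3
  -- fourth
  obtain ⟨w4, hw4, hd4⟩ := dom8 hp (cs := cs) {i | i ≠ 7 ∧ i ≠ 6 ∧ i ≠ 0}
    (rep cs hp.isCartan w3 (rep cs hp.isCartan w2 (rep cs hp.isCartan w1 d)))
  have f4 : rep cs hp.isCartan w4 th = th := fix8 hp (fun i hi => by
    rw [vth]; revert hi; fin_cases i <;> simp) hw4
  have f4' : rep cs hp.isCartan w4 (-sr 7) = -sr 7 := fix8 hp (fun i hi => by
    rw [v7]; revert hi; fin_cases i <;> simp) hw4
  have f4'' : rep cs hp.isCartan w4 vc = vc := fix8 hp (fun i hi => by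
    rw [vvc]; revert hi; fin_cases i <;> simp) hw4
  have H4 := H3.rep w4
  rw [f4, f4', f4''] at H4
  have e4 : rep cs hp.isCartan w4 (rep cs hp.isCartan w3 (rep cs hp.isCartan w2 (rep cs hp.isCartan w1 d))) = vd := by
    have k := H4.ad
    have k' := H4.bd
    have k'' := H4.cd
    have kk := k
    rw [b8_th] at k
    rw [b8_neg] at k'
    rw [b8_vc] at k''
    have g6 := ge8 hp H4.rd 6
    have g0 := ge8 hp H4.rd 0
    have n6 : b8 (rep cs hp.isCartan w4 (rep cs hp.isCartan w3 (rep cs hp.isCartan w2 (rep cs hp.isCartan w1 d)))) (sr 6) ≠ -2 := by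
      intro h6
      have h7 := neg8 hp H4.rd h6
      rw [h7] at k'
      have : b8 (-sr 6) (sr 7) = 1 := by decide +kernel
      omega
    have n0 : b8 (rep cs hp.isCartan w4 (rep cs hp.isCartan w3 (rep cs hp.isCartan w2 (rep cs hp.isCartan w1 d)))) (sr 0) ≠ -2 := by
      intro h6
      have h7 := neg8 hp H4.rd h6
      rw [h7] at kk
      have : b8 (-sr 0) th = 0 := by decide +kernel
      omega
    have d1 := hd4 1 (by decide)
    have d2 := hd4 2 (by decide)
    have d3 := hd4 3 (by decide)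
    have d4 := hd4 4 (by decide)
    have d5 := hd4 5 (by decide)
    refine eq_of_vals hp cs fun j => ?_
    rw [vvd]
    fin_cases j <;> simp <;> omega
  refine ⟨w4 * (w3 * (w2 * w1)), ?_, ?_, ?_, ?_⟩
  · rw [rep_mul_apply, rep_mul_apply, rep_mul_apply, hw1, f2, f3, f4]
  · rw [rep_mul_apply, rep_mul_apply, rep_mul_apply, e2, f3', f4']
  · rw [rep_mul_apply, rep_mul_apply, rep_mul_apply, e3, f4'']
  · rw [rep_mul_apply, rep_mul_apply, rep_mul_apply, e4]

/-- **`W(E₈)` is transitive on the ordered bases of the subsystems `D₄`.** -/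
theorem trans_D4 {a b c d a' b' c' d' : Fin 8 → ℤ} (H : Bs hp cs a b c d) (H' : Bs hp cs a' b' c' d') :
    ∃ w : W, rep cs hp.isCartan w a = a' ∧ rep cs hp.isCartan w b = b' ∧ rep cs hp.isCartan w c = c' ∧
      rep cs hp.isCartan w d = d' := by
  obtain ⟨w, h1, h2, h3, h4⟩ := to_std hp H
  obtain ⟨w', h1', h2', h3', h4'⟩ := to_std hp H'
  refine ⟨w'⁻¹ * w, ?_, ?_, ?_, ?_⟩
  · rw [rep_mul_apply, h1, ← h1', rep_inv_apply]
  · rw [rep_mul_apply, h2, ← h2', rep_inv_apply]
  · rw [rep_mul_apply, h3, ← h3', rep_inv_apply]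
  · rw [rep_mul_apply, h4, ← h4', rep_inv_apply]

/-- two orthogonal roots have a common neighbour -/
theorem exists_nb {a b : Fin 8 → ℤ} (ha : IsRoot cs hp.isCartan a) (hb : IsRoot cs hp.isCartan b) (hab : b8 b a = 0) :
    ∃ c, IsRoot cs hp.isCartan c ∧ b8 c a = -1 ∧ b8 c b = -1 := by
  have := finite_W hp cs
  obtain ⟨vth, vvc, vvd, vvo, v7⟩ := vals
  obtain ⟨w1, hw1⟩ := trans8 hp cs ha (isRoot_th hp cs)
  obtain ⟨w2, hw2, hd2⟩ := dom8 hp (cs := cs) {i | i ≠ 7} (rep cs hp.isCartan w1 b)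
  have f2 : rep cs hp.isCartan w2 th = th := fix8 hp (fun i hi => by
    rw [vth]; revert hi; fin_cases i <;> simp) hw2
  have hr : IsRoot cs hp.isCartan (rep cs hp.isCartan w2 (rep cs hp.isCartan w1 b)) := (hb.act w1).act w2
  have e2 : rep cs hp.isCartan w2 (rep cs hp.isCartan w1 b) = vo := by
    have k : b8 (rep cs hp.isCartan w2 (rep cs hp.isCartan w1 b)) th = 0 := by
      rw [← f2, ← hw1, inv8 hp, inv8 hp, hab]
    have kk := k
    rw [b8_th] at k
    have g7 := ge8 hp hr 7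
    have n7 : b8 (rep cs hp.isCartan w2 (rep cs hp.isCartan w1 b)) (sr 7) ≠ -2 := by
      intro h6
      have h7 := neg8 hp hr h6
      rw [h7] at kk
      have : b8 (-sr 7) th = -1 := by decide +kernel
      omega
    have n0 : b8 (rep cs hp.isCartan w2 (rep cs hp.isCartan w1 b)) (sr 7) ≠ 0 := by
      intro h6
      have d0 := hd2 0 (by decide)
      have d1 := hd2 1 (by decide)
      have d2 := hd2 2 (by decide)
      have d3 := hd2 3 (by decide)
      have d4 := hd2 4 (by decide)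
      have d5 := hd2 5 (by decide)
      have d6 := hd2 6 (by decide)
      refine hr.ne_zero (eq_of_vals hp cs fun j => ?_)
      have h0 : b8 0 (sr j) = 0 := by rw [← bf_eq, map_zero, LinearMap.zero_apply]
      rw [h0]
      fin_cases j <;> simp <;> omega
    have d0 := hd2 0 (by decide)
    have d1 := hd2 1 (by decide)
    have d2 := hd2 2 (by decide)
    have d3 := hd2 3 (by decide)
    have d4 := hd2 4 (by decide)
    have d5 := hd2 5 (by decide)
    have d6 := hd2 6 (by decide)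
    refine eq_of_vals hp cs fun j => ?_
    rw [vvo]
    fin_cases j <;> simp <;> omega
  have hc : IsRoot cs hp.isCartan (sr 7 - th) := by
    rw [← sub_iff (frm8 hp cs) (isRoot_sr cs _ 7) (isRoot_th hp cs), bf_eq]
    decide +kernel
  refine ⟨rep cs hp.isCartan w1⁻¹ (rep cs hp.isCartan w2⁻¹ (sr 7 - th)), (hc.act _).act _, ?_, ?_⟩
  · have h1 : a = rep cs hp.isCartan w1⁻¹ (rep cs hp.isCartan w2⁻¹ th) := by
      conv_rhs => rw [← f2]
      rw [rep_inv_apply, ← hw1, rep_inv_apply]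
    rw [h1, inv8 hp, inv8 hp]
    decide +kernel
  · have h1 : b = rep cs hp.isCartan w1⁻¹ (rep cs hp.isCartan w2⁻¹ vo) := by
      rw [← e2, rep_inv_apply, rep_inv_apply]
    rw [h1, inv8 hp, inv8 hp]
    decide +kernel

end Chev

/-- the nodes of the standard `D₄`; the centre is the second -/
def nj : Fin 4 → Fin 8 := ![1, 3, 2, 4]

theorem b8_add {x y z : Fin 8 → ℤ} : b8 (x + y) z = b8 x z + b8 y z := by
  rw [← bf_eq, ← bf_eq, ← bf_eq, map_add, LinearMap.add_apply]

theorem b8_sub {x y z : Fin 8 → ℤ} : b8 (x - y) z = b8 x z - b8 y z := by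
  rw [← bf_eq, ← bf_eq, ← bf_eq, map_sub, LinearMap.sub_apply]

/-- **An automorphism of the root lattice `E₈` with `g² = -1` stabilises a conjugate of the standard `D₄` and acts on
it as an element of its Weyl group.** -/
theorem exists_base {M : CoxeterMatrix (Fin 8)} (hp : IsType chevE8 8 M) {W : Type*} [Group W] (cs : CoxeterSystem M W)
    (g : (Fin 8 → ℤ) ≃+ (Fin 8 → ℤ)) (hg : ∀ a, IsRoot cs hp.isCartan (g a) ↔ IsRoot cs hp.isCartan a)
    (hsq : ∀ x, g (g x) = -x) :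
    ∃ w v : W, v ∈ Subgroup.closure (Set.range fun j => cs.simple (nj j)) ∧
      ∀ j, g (rep cs hp.isCartan w (sr (nj j))) = rep cs hp.isCartan w (rep cs hp.isCartan v (sr (nj j))) := by
  have := finite_W hp cs
  have F := frm8 hp cs
  have hi : ∀ x y, IsRoot cs hp.isCartan x → IsRoot cs hp.isCartan y → b8 (g x) (g y) = b8 x y := fun x y hx hy => by
    rw [← bf_eq, ← bf_eq]
    exact isom F hg hx hy
  have hs : ∀ x y, b8 x y = b8 y x := fun x y => by rw [← bf_eq, ← bf_eq, F.symm]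
  have h22 : ∀ x, IsRoot cs hp.isCartan x → b8 x x = 2 := fun x hx => by rw [← bf_eq, F.self hx]
  obtain ⟨a1, r1⟩ : ∃ a, IsRoot cs hp.isCartan a := ⟨_, isRoot_sr cs _ 0⟩
  have r2 : IsRoot cs hp.isCartan (g a1) := (hg _).2 r1
  have e12 : b8 (g a1) a1 = 0 := by
    have h1 := hi a1 (g a1) r1 r2
    rw [hsq, b8_neg, hs a1] at h1
    omega
  obtain ⟨a0, r0, e01, e02⟩ := exists_nb hp r1 r2 e12
  have rg : IsRoot cs hp.isCartan (g a0) := (hg _).2 r0
  have eg0 : b8 (g a0) a0 = 0 := by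
    have h1 := hi a0 (g a0) r0 rg
    rw [hsq, b8_neg, hs a0] at h1
    omega
  have eg1 : b8 (g a0) a1 = 1 := by
    have h1 := hi a0 (g a1) r0 r2
    rw [hsq, b8_neg, e02] at h1
    omega
  have eg2 : b8 (g a0) (g a1) = -1 := by rw [hi a0 a1 r0 r1, e01]
  have r3' : IsRoot cs hp.isCartan (g a0 - a1) := by
    rw [← sub_iff F rg r1, bf_eq]; exact eg1
  have r3 : IsRoot cs hp.isCartan (g a0 - a1 - a0) := by
    rw [← sub_iff F r3' r0, bf_eq, b8_sub, eg0, hs a1, e01]; rfl
  have HB : Bs hp cs a0 a1 (g a1) (g a0 - a1 - a0) := {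
    ra := r0, rb := r1, rc := r2, rd := r3
    ab := by rw [hs, e01]
    ac := by rw [hs, e02]
    ad := by rw [b8_sub, b8_sub, eg0, hs a1, e01, h22 a0 r0]; rfl
    bc := e12
    bd := by rw [b8_sub, b8_sub, eg1, h22 a1 r1, e01]; rfl
    cd := by rw [b8_sub, b8_sub, eg2, hs a1, e12, e02]; rfl }
  have HS : Bs hp cs (sr 3) (sr 1) (sr 2) (sr 4) := {
    ra := isRoot_sr cs _ _, rb := isRoot_sr cs _ _, rc := isRoot_sr cs _ _, rd := isRoot_sr cs _ _
    ab := by decide +kernel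
    ac := by decide +kernel
    ad := by decide +kernel
    bc := by decide +kernel
    bd := by decide +kernel
    cd := by decide +kernel }
  obtain ⟨w, w0, w1, w2, w3⟩ := trans_D4 hp HS HB
  refine ⟨w, cs.simple 3 * (cs.simple 2 * (cs.simple 1 * (cs.simple 3 * (cs.simple 4 * cs.simple 2)))), ?_, ?_⟩
  · have m1 : cs.simple 1 ∈ Subgroup.closure (Set.range fun j => cs.simple (nj j)) := Subgroup.subset_closure ⟨0, rfl⟩
    have m3 : cs.simple 3 ∈ Subgroup.closure (Set.range fun j => cs.simple (nj j)) := Subgroup.subset_closure ⟨1, rfl⟩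
    have m2 : cs.simple 2 ∈ Subgroup.closure (Set.range fun j => cs.simple (nj j)) := Subgroup.subset_closure ⟨2, rfl⟩
    have m4 : cs.simple 4 ∈ Subgroup.closure (Set.range fun j => cs.simple (nj j)) := Subgroup.subset_closure ⟨3, rfl⟩
    exact mul_mem m3 (mul_mem m2 (mul_mem m1 (mul_mem m3 (mul_mem m4 m2))))
  · have hst : ∀ i (x : Fin 8 → ℤ), rep cs hp.isCartan (cs.simple i) x = x - b8 x (sr i) • sr i := fun i x => by
      rw [rep_simple_eq, ← cpr_sr cs hp.isCartan, ← F.cpr _ _ (isRoot_sr cs _ i), bf_eq]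
    have hv : ∀ x, rep cs hp.isCartan (cs.simple 3 * (cs.simple 2 * (cs.simple 1 * (cs.simple 3 * (cs.simple 4 * cs.simple 2))))) x =
        (fun x => x - b8 x (sr 3) • sr 3) ((fun x => x - b8 x (sr 2) • sr 2) ((fun x => x - b8 x (sr 1) • sr 1)
          ((fun x => x - b8 x (sr 3) • sr 3) ((fun x => x - b8 x (sr 4) • sr 4) ((fun x => x - b8 x (sr 2) • sr 2) x))))) := by
      intro x
      simp only [rep_mul_apply, hst]
    have v1 : rep cs hp.isCartan (cs.simple 3 * (cs.simple 2 * (cs.simple 1 * (cs.simple 3 * (cs.simple 4 * cs.simple 2))))) (sr 1) =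
        sr 2 := by rw [hv]; decide +kernel
    have v3 : rep cs hp.isCartan (cs.simple 3 * (cs.simple 2 * (cs.simple 1 * (cs.simple 3 * (cs.simple 4 * cs.simple 2))))) (sr 3) =
        sr 1 + sr 3 + sr 4 := by rw [hv]; decide +kernel
    have v2 : rep cs hp.isCartan (cs.simple 3 * (cs.simple 2 * (cs.simple 1 * (cs.simple 3 * (cs.simple 4 * cs.simple 2))))) (sr 2) =
        -sr 1 := by rw [hv]; decide +kernel
    have v4 : rep cs hp.isCartan (cs.simple 3 * (cs.simple 2 * (cs.simple 1 * (cs.simple 3 * (cs.simple 4 * cs.simple 2))))) (sr 4) =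
        -(sr 3 + sr 3) - sr 1 - sr 2 - sr 4 := by rw [hv]; decide +kernel
    intro j
    fin_cases j
    · show g (rep cs hp.isCartan w (sr 1)) = rep cs hp.isCartan w (rep cs hp.isCartan _ (sr 1))
      rw [v1, w1, w2]
    · show g (rep cs hp.isCartan w (sr 3)) = rep cs hp.isCartan w (rep cs hp.isCartan _ (sr 3))
      rw [v3, map_add, map_add, w1, w0, w3]
      abel
    · show g (rep cs hp.isCartan w (sr 2)) = rep cs hp.isCartan w (rep cs hp.isCartan _ (sr 2))
      rw [v2, map_neg, w2, w1, hsq]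
    · show g (rep cs hp.isCartan w (sr 4)) = rep cs hp.isCartan w (rep cs hp.isCartan _ (sr 4))
      rw [v4, w3]
      simp only [map_sub, map_neg, map_add]
      rw [w0, w1, w2, w3, hsq]
      abel

end Cfsg.Agent.H897.X3
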